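import Mathlib
import Cfsg.Agent.H453.OddM.Asm
import Cfsg.Agent.H947.Cyc.Ree

/-!
# TEAM ODDM (S4785): the small Ree groups

* `real_psl`  : elements of odd prime order dividing `|K| - 1` in `PSL₂(K)` are real
* `real_rho`  : elements of order `ρ` of `²G₂(q)` are real
* `row_ree`   : the row
-/

set_option autoImplicit false
set_option linter.style.haveILetI false

namespace Cfsg.Agent.H676.OddM

open Cfsg Cfsg.Agent.H453.OddM Cfsg.Agent.H947.El Cfsg.Agent.H947.Cyc Cfsg.Agent.OrdDiv Cfsg.Agent.H436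

universe u v

theorem RealP.map {T : Type u} {S : Type v} [Group T] [Group S] {r : ℕ} (h : RealP T r) (f : T →* S)
    (hf : Function.Injective f) : RealP S r := by
  obtain ⟨x, hx, hr⟩ := h
  exact ⟨f x, by rw [← hx]; exact orderOf_injective f hf x, hr.map f⟩

section psl

variable {K : Type u} [Field K] [Fintype K]

/-- elements of the diagonal torus of `PSL₂` are real -/
theorem real_psl {s : ℕ} (hs : s.Prime) (hs2 : s ≠ 2) (hd : s ∣ Fintype.card K - 1) :
    RealP (Matrix.ProjectiveSpecialLinearGroup (Fin 2) K) s := by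
  classical
  have hf : Fact s.Prime := ⟨hs⟩
  obtain ⟨a, ha⟩ := exists_prime_orderOf_dvd_card' (G := Kˣ) s (by
    rw [Nat.card_eq_fintype_card, Fintype.card_units]; exact hd)
  refine ⟨ph a, orderOf_eq_prime ?_ ?_, ?_⟩
  · rw [← map_pow, ← ha, pow_orderOf_eq_one, map_one]
  · intro h1
    have h2 : hh a ∈ Subgroup.center (Matrix.SpecialLinearGroup (Fin 2) K) := (QuotientGroup.eq_one_iff _).1 h1
    obtain ⟨c, hc1, hc2⟩ := Matrix.SpecialLinearGroup.mem_center_iff.1 h2
    have h3 := congrFun (congrFun hc2 0) 0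
    have h4 := congrFun (congrFun hc2 1) 1
    rw [coe_hh] at h3 h4
    simp only [Matrix.scalar_apply, Matrix.diagonal_apply_eq, Matrix.of_apply, Matrix.cons_val_zero,
      Matrix.cons_val_one, Matrix.cons_val', Matrix.empty_val', Matrix.cons_val_fin_one] at h3 h4
    have h5 : a⁻¹ = a := Units.ext (by rw [← h4, ← h3])
    have h6 : a ^ 2 = 1 := by
      rw [sq]
      nth_rewrite 1 [← h5]
      exact inv_mul_cancel a
    have h7 := orderOf_dvd_of_pow_eq_one h6
    rw [ha] at h7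
    exact hs2 ((Nat.prime_dvd_prime_iff_eq hs Nat.prime_two).1 h7)
  · let w : Matrix.SpecialLinearGroup (Fin 2) K := ⟨!![0, 1; -1, 0], by simp [Matrix.det_fin_two]⟩
    refine ⟨QuotientGroup.mk' _ w, ?_⟩
    have h1 : w * hh a = (hh a)⁻¹ * w := by
      rw [← map_inv]
      apply Subtype.ext
      rw [Matrix.SpecialLinearGroup.coe_mul, Matrix.SpecialLinearGroup.coe_mul, coe_hh, coe_hh]
      ext i j
      fin_cases i <;> fin_cases j <;> simp [w, Matrix.mul_apply, Fin.sum_univ_two]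
    have h2 : QuotientGroup.mk' _ w * ph a = (ph a)⁻¹ * QuotientGroup.mk' _ w := by
      change QuotientGroup.mk' _ w * QuotientGroup.mk' _ (hh a) = (QuotientGroup.mk' _ (hh a))⁻¹ * QuotientGroup.mk' _ w
      rw [← map_inv, ← map_mul, ← map_mul, h1]
    rw [h2, mul_inv_cancel_right]

end psl

/-- the elements of order `ρ` are real -/
theorem real_rho {R : Type u} [Group R] [Finite R] {m q r ρ : ℕ} (h : ReeF R m q r) (n : ReeN m q r ρ) :
    RealP R ρ := by
  have hf : Fact ρ.Prime := ⟨n.pr⟩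
  have h19 := n.q19
  have hρR : ρ ∣ Nat.card R := by rw [h.card, n.cube]; exact (n.dvd.mul_left _).mul_left _
  obtain ⟨x, hx⟩ := exists_prime_orderOf_dvd_card' ρ hρR
  obtain ⟨A, -, -, hA⟩ := h.norm ρ n.pr (by omega) (Subgroup.zpowers x) (by rw [Nat.card_zpowers, hx])
  have h2 : 2 ∣ Nat.card (Subgroup.normalizer ((Subgroup.zpowers x : Subgroup R) : Set R)) := by
    rcases hA with ⟨-, h1⟩ | ⟨-, h1⟩ | ⟨-, h1⟩ <;> rw [h1] <;> omega
  have hf2 : Fact (Nat.Prime 2) := ⟨Nat.prime_two⟩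
  obtain ⟨t, ht⟩ := exists_prime_orderOf_dvd_card' 2 h2
  have hto : orderOf (t : R) = 2 := by rw [Subgroup.orderOf_coe, ht]
  have ht2 : (t : R) * t = 1 := by rw [← sq, ← hto, pow_orderOf_eq_one]
  have h3 : (t : R) * x * (t : R)⁻¹ ∈ Subgroup.zpowers x :=
    (Subgroup.mem_normalizer_iff.1 t.2 x).1 (Subgroup.mem_zpowers x)
  obtain ⟨k, hk⟩ := Subgroup.mem_zpowers_iff.1 h3
  have h4 : x ^ (k * k) = x := by
    have e1 : (t : R) * x ^ k * (t : R)⁻¹ = (x ^ k) ^ k := by
      rw [← conj_zpow, ← hk]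
    have e2 : (t : R) * x ^ k * (t : R)⁻¹ = x := by
      rw [hk]
      have h5 : (t : R)⁻¹ = t := inv_eq_of_mul_eq_one_left ht2
      rw [h5]
      calc (t : R) * (t * x * t) * t = (t * t) * x * (t * t) := by group
        _ = x := by rw [ht2, one_mul, mul_one]
    rw [zpow_mul, ← e1, e2]
  have h5 : (ρ : ℤ) ∣ k * k - 1 := by
    rw [← hx]
    refine orderOf_dvd_iff_zpow_eq_one.2 ?_
    rw [zpow_sub, h4, zpow_one, mul_inv_cancel]
  have h6 : k * k - 1 = (k - 1) * (k + 1) := by ring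
  rw [h6] at h5
  rcases (Nat.prime_iff_prime_int.1 n.pr).dvd_mul.1 h5 with h7 | h7
  · exfalso
    have h8 : x ^ k = x := by
      rw [← hx] at h7
      have h9 := orderOf_dvd_iff_zpow_eq_one.1 h7
      rwa [zpow_sub, zpow_one, mul_inv_eq_one] at h9
    rw [h8] at hk
    refine h.not_commute n hx (Or.inl hto) ?_
    nth_rewrite 1 [hk]
    rw [inv_mul_cancel_right]
  · refine ⟨x, hx, (t : R), ?_⟩
    rw [← hk]
    rw [← hx] at h7
    have h9 := orderOf_dvd_iff_zpow_eq_one.1 h7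
    rw [zpow_add, zpow_one] at h9
    exact eq_inv_of_mul_eq_one_left h9

/-- **the small Ree groups** -/
theorem row_ree (q : ℕ) : RowN.{u} (.ree q) := by
  intro T _ _ _ hT
  obtain ⟨K, iK, iK', m, hm, hK, hq, ⟨e⟩⟩ := hT.real
  subst hq
  obtain ⟨ρ, n⟩ := exists_reeN m hm
  have F := reeF hm hK n
  have hfin : Finite ↥(Cfsg.Lie.twistedG2 K (3 ^ m)) := inferInstance
  have h27 := n.q27
  have hq4 := n.q4
  obtain ⟨s, hs, hsd⟩ := Nat.exists_prime_and_dvd (n := (3 ^ (2 * m + 1) - 1) / 2) (by omega)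
  have hsq : s ∣ 3 ^ (2 * m + 1) - 1 := hsd.trans (Nat.div_dvd_of_dvd (by omega))
  have hs2 : s ≠ 2 := by
    rintro rfl
    omega
  obtain ⟨a, haH, ha1, ha2⟩ := Cfsg.Agent.S1157.exists_involution hK
  obtain ⟨⟨c⟩, -⟩ := Cfsg.Agent.S1152.result hK a haH ha1 ha2
  have hreal : RealP ↥(Cfsg.Lie.twistedG2 K (3 ^ m)) s := by
    have h1 := real_psl (K := K) hs hs2 (by rw [hK]; exact hsq)
    have h2 := RealP.map h1 (MonoidHom.inr (Multiplicative (ZMod 2)) _) (fun x y h => (Prod.ext_iff.1 h).2)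
    have h3 := RealP.map h2 c.symm.toMonoidHom c.symm.injective
    exact RealP.map h3 (Subgroup.centralizer {a}).subtype Subtype.val_injective
  have hrow : Row ↥(Cfsg.Lie.twistedG2 K (3 ^ m)) := fun M hM =>
    ree_eq_top F n M (hM.cov.dvd (real_rho F n)) hs hsd (hM.cov.dvd hreal)
  exact Row8.congr e.symm hrow.row8

end Cfsg.Agent.H676.OddM
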